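import Groth.Agent.Lib.DPush9.AffineAcyclic
import Groth.Agent.Lib.ModM1.PullSpec
import Groth.Agent.Lib.DQC.Tensor
import Groth.Prelude.Def_DDual2

/-! Derived direct image between affine schemes is restriction of scalars. -/

set_option autoImplicit false
set_option linter.style.haveILetI false
set_option linter.unusedSectionVars false
set_option backward.isDefEq.respectTransparency false
set_option backward.isDefEq.respectTransparency.types false
set_option maxHeartbeats 800000

universe u

open CategoryTheory CategoryTheory.Limits AlgebraicGeometry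

namespace Groth.Agent.DPush9

attribute [local instance] HasDerivedCategory.standard

variable {R S : CommRingCat.{u}} (φ : R ⟶ S)

instance additive_tilde : (tilde.functor R).Additive := (tilde.adjunction (R := R)).left_adjoint_additive

instance additive_restrict_tilde : (ModuleCat.restrictScalars φ.hom ⋙ tilde.functor R).Additive :=
  @Functor.instAdditiveComp _ _ _ _ _ _ _ _ _ _ inferInstance _ additive_tilde

/-- The comparison. -/
noncomputable def tildePushHom :
    ModuleCat.restrictScalars φ.hom ⋙ tilde.functor R ⟶
      tilde.functor S ⋙ Scheme.Modules.pushforward (Spec.map φ) :=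
  Functor.whiskerRight ((Functor.leftUnitor _).inv ≫
      Functor.whiskerRight (tilde.adjunction (R := S)).unit (ModuleCat.restrictScalars φ.hom)) (tilde.functor R) ≫
    Functor.whiskerRight ((Functor.associator _ _ _).hom ≫
      Functor.whiskerLeft (tilde.functor S) (M1.pushΓIso φ).inv ≫ (Functor.associator _ _ _).inv) (tilde.functor R) ≫
    (Functor.associator _ _ _).hom ≫
    Functor.whiskerLeft (tilde.functor S ⋙ Scheme.Modules.pushforward (Spec.map φ)) (tilde.adjunction (R := R)).counit ≫
    (Functor.rightUnitor _).hom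

theorem isIso_tildePushHom : IsIso (tildePushHom φ) := by
  haveI : ∀ N, IsIso ((tildePushHom φ).app N) := fun N => by
    haveI : ((tilde.functor S).obj N).IsQuasicoherent := inferInstanceAs ((tilde (R := S) N).IsQuasicoherent)
    haveI : IsIso ((tilde.functor S).obj N).fromTildeΓ :=
      Scheme.Modules.isIso_fromTildeΓ_of_isQuasicoherent (R := S) _
    haveI h : IsIso ((Scheme.Modules.pushforward (Spec.map φ)).obj ((tilde.functor S).obj N)).fromTildeΓ :=
      isIso_fromTildeΓ_pushforward φ _
    haveI : IsIso ((tilde.adjunction (R := R)).counit.app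
        ((Scheme.Modules.pushforward (Spec.map φ)).obj ((tilde.functor S).obj N))) := h
    simp only [tildePushHom, NatTrans.comp_app, Functor.whiskerLeft_app, Functor.whiskerRight_app, Functor.comp_obj]
    infer_instance
  exact NatIso.isIso_of_isIso_app _

/-- Direct image of a tilde. -/
noncomputable def tildePushIso :
    tilde.functor S ⋙ Scheme.Modules.pushforward (Spec.map φ) ≅ ModuleCat.restrictScalars φ.hom ⋙ tilde.functor R :=
  (@asIso _ _ _ _ (tildePushHom φ) (isIso_tildePushHom φ)).symm

variable [DCoh.HasRpush (Spec.map φ)]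

/-- Direct image of a tilde complex. -/
noncomputable def tildePushXIso :
    DPerf.tildeX S ⋙ (Scheme.Modules.pushforward (Spec.map φ)).mapHomologicalComplex (ComplexShape.up ℤ) ≅
      (ModuleCat.restrictScalars φ.hom).mapHomologicalComplex (ComplexShape.up ℤ) ⋙ DPerf.tildeX R :=
  haveI h₁ : (tilde.functor R).Additive := additive_tilde
  haveI h₂ : (ModuleCat.restrictScalars φ.hom ⋙ tilde.functor R).Additive := additive_restrict_tilde φ
  Functor.mapHomologicalComplexCompIso (F := tilde.functor S) (G := Scheme.Modules.pushforward (Spec.map φ))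
      (H := ModuleCat.restrictScalars φ.hom ⋙ tilde.functor R) (tildePushIso φ) (ComplexShape.up ℤ) ≪≫
    (Functor.mapHomologicalComplexCompIso (F := ModuleCat.restrictScalars φ.hom) (G := tilde.functor R)
      (H := ModuleCat.restrictScalars φ.hom ⋙ tilde.functor R) (Iso.refl _) (ComplexShape.up ℤ)).symm

/-- The derived direct image of a tilde complex. -/
noncomputable def tildeXRpushIso :
    DPerf.tildeX S ⋙ DerivedCategory.Q ⋙ DCoh.Rpush (Spec.map φ) ≅
      (ModuleCat.restrictScalars φ.hom).mapHomologicalComplex (ComplexShape.up ℤ) ⋙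
        DPerf.tildeX R ⋙ DerivedCategory.Q :=
  (@asIso _ _ _ _ (Functor.whiskerLeft (DPerf.tildeX S) (βp (Spec.map φ)))
    (@NatIso.isIso_of_isIso_app _ _ _ _ _ _ _ fun P =>
      isIso_βp (Spec.map φ) ((DPerf.tildeX S).obj P) (DQC.isQCoh_tildeX P)
        fun n => isAcyclicObj_affine (Spec.map φ) (DQC.isQCoh_tildeX P n))).symm ≪≫
    (Functor.associator _ _ _).symm ≪≫
    Functor.isoWhiskerRight (tildePushXIso φ) DerivedCategory.Q ≪≫
    Functor.associator _ _ _

/-- Derived direct image between affine schemes is restriction of scalars. -/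
theorem nonempty_tildeD_rpush_iso [PreservesFiniteLimits (tilde.functor R)] [PreservesFiniteLimits (tilde.functor S)] :
    Nonempty (DCoh.tildeD S ⋙ DCoh.Rpush (Spec.map φ) ≅ DRing.restrictD φ.hom ⋙ DCoh.tildeD R) :=
  ⟨Localization.liftNatIso (DerivedCategory.Q (C := ModuleCat.{u} S))
    (HomologicalComplex.quasiIso (ModuleCat.{u} S) (ComplexShape.up ℤ))
    (DerivedCategory.Q ⋙ DCoh.tildeD S ⋙ DCoh.Rpush (Spec.map φ))
    (DerivedCategory.Q ⋙ DRing.restrictD φ.hom ⋙ DCoh.tildeD R) _ _
    ((Functor.associator _ _ _).symm ≪≫
      Functor.isoWhiskerRight (tilde.functor S).mapDerivedCategoryFactors (DCoh.Rpush (Spec.map φ)) ≪≫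
      Functor.associator _ _ _ ≪≫ tildeXRpushIso φ ≪≫
      Functor.isoWhiskerLeft _ (tilde.functor R).mapDerivedCategoryFactors.symm ≪≫
      (Functor.associator _ _ _).symm ≪≫
      Functor.isoWhiskerRight (ModuleCat.restrictScalars φ.hom).mapDerivedCategoryFactors.symm (DCoh.tildeD R) ≪≫
      Functor.associator _ _ _)⟩

end Groth.Agent.DPush9
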