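import Groth.Agent.Lib.DPush9.Compute
import Groth.Agent.Lib.DPush.Affine
import Groth.Agent.Lib.CBC10.RpushTilde
import Groth.Agent.Lib.CohFound.HHBridge
import Groth.Agent.Lib.CohFound.RpushQCoh

/-! Quasi-coherent modules are acyclic for affine morphisms. -/

set_option autoImplicit false
set_option linter.style.haveILetI false
set_option linter.unusedSectionVars false
set_option backward.isDefEq.respectTransparency false
set_option backward.isDefEq.respectTransparency.types false

universe u

open CategoryTheory CategoryTheory.Limits AlgebraicGeometry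

namespace Groth.Agent.DPush9

attribute [local instance] HasDerivedCategory.standard

variable {X S : Scheme.{u}} (f : X ⟶ S) [IsAffineHom f]

/-- Quasi-coherent modules are acyclic for direct image along an affine morphism. -/
theorem isAcyclicObj_affine {M : X.Modules} (hM : Coh.IsQCoh M) :
    RFPlus.IsAcyclicObj (Scheme.Modules.pushforward f) M := by
  intro i hi
  let N := (Coh.Rpush f i).obj M
  change IsZero N
  suffices h : ∀ U : S.Opens, IsAffineOpen U → IsZero (N.restrict U.ι) by
    choose V hV hxV using fun x : S => exists_isAffineOpen_mem_and_subset (x := x) (U := ⊤) trivial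
    exact DPerf.isZero_of_cover V (fun x => ⟨x, (hxV x).1⟩) fun x => h (V x) (hV x)
  intro U hU
  letI := CBC10.overU f hU
  obtain ⟨e⟩ := CBC10.nonempty_rpush_restrict_iso_tilde f hM i hU
  haveI : IsAffine (f ⁻¹ᵁ U : X.Opens) := hU.preimage f
  haveI : (M.restrict (f ⁻¹ᵁ U).ι).IsQuasicoherent := M1.isQCoh_restrict hM _
  haveI : Subsingleton (Coh.HH (f ⁻¹ᵁ U : X.Opens).toScheme (M.restrict (f ⁻¹ᵁ U).ι) i) :=
    CohFound.subsingleton_HH_affine _ i hi
  have h3 : IsZero (N.restrict hU.fromSpec) :=
    ((tilde.functor Γ(S, U)).map_isZero (@ModuleCat.isZero_of_subsingleton _ _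
      (ModuleCat.of Γ(S, U) (Coh.HH (f ⁻¹ᵁ U : X.Opens).toScheme (M.restrict (f ⁻¹ᵁ U).ι) i)) ‹_›)).of_iso e
  exact ((Scheme.Modules.restrictFunctor hU.isoSpec.hom).map_isZero h3).of_iso
    (((Scheme.Modules.restrictFunctorCongr hU.isoSpec_hom_fromSpec.symm) ≪≫
      Scheme.Modules.restrictFunctorComp _ _).app N)

end Groth.Agent.DPush9
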