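import Groth.Agent.Lib.DPush.QCoh
import Groth.Agent.Lib.CohMop.ProperSupport
import Groth.Agent.Lib.ClSub24.Proper
import Groth.Agent.Lib.CohGab13.Basic
import Groth.Agent.Lib.RHom.PCoh
import Groth.Agent.Lib.DMV.Support
import Groth.Agent.Lib.DPush.Comp

/-! Coherence of derived direct images for supports proper over the base. -/

set_option autoImplicit false
set_option linter.style.haveILetI false
set_option linter.unusedSectionVars false
set_option backward.isDefEq.respectTransparency false
set_option backward.isDefEq.respectTransparency.types false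

universe u

open CategoryTheory CategoryTheory.Limits AlgebraicGeometry

attribute [local instance] HasDerivedCategory.standard

namespace Groth.Agent.DPush9

variable {X S : Scheme.{u}}

/-- Coherent modules with support proper over the base. -/
def CohPS (f : X ⟶ S) : ObjectProperty X.Modules :=
  fun M => Coh.IsCoh M ∧ ClSub.IsProperOver f (CohB1.support M)

theorem isCoh_of_isZero [IsLocallyNoetherian X] {M : X.Modules} (h : IsZero M) : Coh.IsCoh M := by
  haveI : Mono (0 : M ⟶ Coh.structureModule X) := ⟨fun g k _ => h.eq_of_tgt g k⟩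
  exact M1.isCoh_of_mono (0 : M ⟶ Coh.structureModule X) (M1.isCoh_structureModule X) (DPush.isQCoh_of_isZero h)

theorem support_of_isZero {M : X.Modules} (h : IsZero M) : CohB1.support M = ∅ :=
  Set.eq_empty_iff_forall_notMem.2 fun x hx =>
    hx (AddCommGrpCat.subsingleton_of_isZero (RHom.stalkZero_of_isZero x h))

theorem support_iso {M N : X.Modules} (e : M ≅ N) : CohB1.support M = CohB1.support N :=
  subset_antisymm (SerreCl8.support_subset_of_mono e.hom) (SerreCl8.support_subset_of_mono e.inv)

theorem isWeakSerre_coh (X : Scheme.{u}) [IsLocallyNoetherian X] :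
    WSerre.IsWeakSerre (fun M : X.Modules => Coh.IsCoh M) where
  exists_zero :=
    ⟨kernel (𝟙 (Coh.structureModule X)), isZero_kernel_of_mono _, isCoh_of_isZero (isZero_kernel_of_mono _)⟩
  kernels_le := by
    rintro _ ⟨φ, k, hk, hM, hN⟩
    let e := (kernelIsKernel φ).conePointUniqueUpToIso hk
    exact M1.isCoh_of_mono e.inv (M1.isCoh_kernel hM hN.1 φ)
      (M1.isQCoh_of_isIso e (M1.isQCoh_kernel hM.1 hN.1 φ))
  cokernels_le := by
    rintro _ ⟨φ, k, hk, hM, hN⟩
    let e := (cokernelIsCokernel φ).coconePointUniqueUpToIso hk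
    exact ⟨M1.isQCoh_of_isIso e (M1.isQCoh_cokernel hM.1 hN.1 φ), M1.isFT_of_epi e.hom (M1.isCoh_cokernel hM.1 hN φ).2⟩
  prop_X₂_of_shortExact hS h₁ h₃ := RHom.isCoh_of_shortExact hS h₁ h₃

theorem isWeakSerre_cohPS [IsLocallyNoetherian X] (f : X ⟶ S) [LocallyOfFiniteType f] :
    WSerre.IsWeakSerre (CohPS f) := by
  haveI := isWeakSerre_coh X
  let P : ObjectProperty X.Modules := fun M => Coh.IsCoh M
  have hsub : ∀ {E : ShortComplex X.Modules}, E.ShortExact → Coh.IsCoh E.X₁ → Coh.IsCoh E.X₃ →
      ClSub.IsProperOver f (CohB1.support E.X₂) →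
      ClSub.IsProperOver f (CohB1.support E.X₁) ∧ ClSub.IsProperOver f (CohB1.support E.X₃) := fun hE h₁ h₃ h =>
    ⟨ClSub24.isProperOver_subset f (CohGab13.support_mid hE ▸ Set.subset_union_left) (M1.isClosed_support h₁.2) h,
      ClSub24.isProperOver_subset f (CohGab13.support_mid hE ▸ Set.subset_union_right) (M1.isClosed_support h₃.2) h⟩
  exact
    { exists_zero := by
        refine ⟨kernel (𝟙 (Coh.structureModule X)), isZero_kernel_of_mono _,
          isCoh_of_isZero (isZero_kernel_of_mono _), ?_⟩
        rw [support_of_isZero (isZero_kernel_of_mono _), ← Set.iUnion_of_empty (fun _ : Empty => (∅ : Set X))]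
        exact ClSub24.isProperOver_iUnion f _ fun e => e.elim
      kernels_le := by
        rintro _ ⟨φ, k, hk, hM, hN⟩
        let e := (kernelIsKernel φ).conePointUniqueUpToIso hk
        have hK : Coh.IsCoh (kernel φ) := M1.isCoh_kernel hM.1 hN.1.1 φ
        have hC := P.prop_cokernel (kernel.ι φ) hK hM.1
        have h := (hsub (E := ShortComplex.mk (kernel.ι φ) (cokernel.π (kernel.ι φ)) (cokernel.condition _))
          (ShortComplex.ShortExact.mk' (ShortComplex.exact_cokernel _) inferInstance inferInstance) hK hC hM.2).1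
        exact ⟨P.prop_of_iso e hK, support_iso e ▸ h⟩
      cokernels_le := by
        rintro _ ⟨φ, k, hk, hM, hN⟩
        let e := (cokernelIsCokernel φ).coconePointUniqueUpToIso hk
        have hC : Coh.IsCoh (cokernel φ) := M1.isCoh_cokernel hM.1.1 hN.1 φ
        have hK := P.prop_kernel (cokernel.π φ) hN.1 hC
        have h := (hsub (E := ShortComplex.mk (kernel.ι (cokernel.π φ)) (cokernel.π φ) (kernel.condition _))
          (ShortComplex.ShortExact.mk' (ShortComplex.exact_kernel _) inferInstance inferInstance) hK hC hN.2).2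
        exact ⟨P.prop_of_iso e hC, support_iso e ▸ h⟩
      prop_X₂_of_shortExact := fun {E} hE h₁ h₃ => by
        refine ⟨RHom.isCoh_of_shortExact hE h₁.1 h₃.1, ?_⟩
        rw [CohGab13.support_mid hE, Set.union_eq_iUnion]
        exact ClSub24.isProperOver_iUnion f _ fun b => by cases b <;> [exact h₃.2; exact h₁.2] }

/-- Bounded below coherent objects with proper supports have coherent derived direct images. -/
theorem isCohD_rpush [IsLocallyNoetherian S] (f : X ⟶ S) [LocallyOfFiniteType f] [DCoh.HasRpush f] (E : DCoh.D X)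
    (a : ℤ) (hE : E.IsGE a) (hc : DCoh.IsCohD E)
    (hs : ∀ i : ℤ, ClSub.IsProperOver f (CohB1.support (DCoh.HD E i))) : DCoh.IsCohD ((DCoh.Rpush f).obj E) := by
  haveI : IsLocallyNoetherian X := LocallyOfFiniteType.isLocallyNoetherian f
  haveI := isWeakSerre_coh S
  haveI := isWeakSerre_cohPS f
  obtain ⟨_, _⟩ := DPush.exists_commShift_isTriangulated f
  refine WayOut.cohIn_obj_of_isGE (fun M : S.Modules => Coh.IsCoh M) (CohPS f) (DCoh.Rpush f)
    (DPush.isGE_rpush f) (fun M hM q => ?_) E a hE fun q => ⟨hc q, hs q⟩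
  by_cases h0 : q < 0
  · have := DPush.isGE_rpush f ((DerivedCategory.singleFunctor X.Modules 0).obj M) 0 inferInstance
    exact isCoh_of_isZero (DerivedCategory.isZero_of_isGE _ 0 q h0)
  · obtain ⟨p, rfl⟩ : ∃ p : ℕ, q = p := ⟨q.toNat, by omega⟩
    obtain ⟨e⟩ := SitePAdj.nonempty_homology_single_iso (DPush.unit f) KInjLib.enoughKInj_of_grothendieck M p
    exact ObjectProperty.prop_of_iso (fun M : S.Modules => Coh.IsCoh M) e.symm
      (CohMop.isCoh_rpush_of_properSupport f hM.1 hM.2 p)

/-- Coherent objects with proper supports, bounded on both sides, have bounded derived direct images. -/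
theorem exists_isLE_rpush [IsLocallyNoetherian S] [CompactSpace S] (f : X ⟶ S) [LocallyOfFiniteType f]
    [DCoh.HasRpush f] (E : DCoh.D X) (a b : ℤ) (ha : E.IsGE a) (hb : E.IsLE b) (hc : DCoh.IsCohD E)
    (hs : ∀ i : ℤ, ClSub.IsProperOver f (CohB1.support (DCoh.HD E i))) :
    ∃ b' : ℤ, ((DCoh.Rpush f).obj E).IsLE b' := by
  haveI : IsLocallyNoetherian X := LocallyOfFiniteType.isLocallyNoetherian f
  let T : Set X := ⋃ i : ↥(Finset.Icc a b), CohB1.support (DCoh.HD E i.1)
  have hT : ClSub.IsProperOver f T := ClSub24.isProperOver_iUnion f _ fun i => hs i.1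
  have hET : ∀ i, CohB1.support (DCoh.HD E i) ⊆ T := fun i x hx => by
    by_cases hi : i ∈ Finset.Icc a b
    · exact Set.mem_iUnion.2 ⟨⟨i, hi⟩, hx⟩
    · have h0 : IsZero (DCoh.HD E i) := by
        rw [Finset.mem_Icc, not_and_or] at hi
        rcases hi with hi | hi
        · exact DerivedCategory.isZero_of_isGE E a i (by omega)
        · exact DerivedCategory.isZero_of_isLE E b i (by omega)
      rw [support_of_isZero h0] at hx
      exact hx.elim
  have hTc : IsCompact T := by
    obtain ⟨W, i, _, hr, _⟩ := (ClSub24.isProperOver_iff_exists f T).1 hT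
    haveI : CompactSpace W := QuasiCompact.compactSpace_of_compactSpace (i ≫ f)
    rw [← hr]
    exact isCompact_range i.continuous
  have hcov : ∀ x : X, ∃ V : X.Opens, IsAffineOpen V ∧ x ∈ V := fun x => by
    obtain ⟨V, hV, hx, -⟩ := TopologicalSpace.Opens.isBasis_iff_nbhd.1 X.isBasis_affineOpens
      (TopologicalSpace.Opens.mem_top x)
    exact ⟨V, hV, hx⟩
  choose V hV hxV using hcov
  obtain ⟨t, ht⟩ := hTc.elim_finite_subcover (fun x => (V x : Set X)) (fun x => (V x).2)
    fun x _ => Set.mem_iUnion.2 ⟨x, hxV x⟩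
  let U : X.Opens := t.sup V
  have hTU : T ⊆ (U : Set X) := fun x hx => by
    obtain ⟨y, hy, hxy⟩ := Set.mem_iUnion₂.1 (ht hx)
    exact SetLike.coe_subset_coe.2 (Finset.le_sup (f := V) hy) hxy
  haveI : CompactSpace U.toScheme := isCompact_iff_compactSpace.1 (show IsCompact (U : Set X) by
    rw [show (U : Set X) = ⋃ x ∈ t, (V x : Set X) by
      simp only [U, Finset.sup_eq_iSup, TopologicalSpace.Opens.coe_iSup]]
    exact t.isCompact_biUnion fun x _ => (hV x).isCompact)
  haveI : DCoh.HasRpush U.ι := KInjLib.hasRightDerivedFunctor (A := U.toScheme.Modules) KInjLib.enoughKInj_of_grothendieck _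
  haveI : DCoh.HasRpush (U.ι ≫ f) :=
    KInjLib.hasRightDerivedFunctor (A := U.toScheme.Modules) KInjLib.enoughKInj_of_grothendieck _
  obtain ⟨e⟩ := DMV.nonempty_iso_rpush_restrict U T hT.1 hTU E hET
  let F := (DPerf.resD U.ι).obj E
  have hF : F.IsLE b := by
    rw [DerivedCategory.isLE_iff]
    intro i hi
    exact ((Scheme.Modules.restrictFunctor U.ι).map_isZero (DerivedCategory.isZero_of_isLE E b i hi)).of_iso
      (DPerf.hdResIso U.ι E i)
  haveI : IsLocallyNoetherian U.toScheme := isLocallyNoetherian_of_isOpenImmersion U.ι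
  haveI : IsNoetherian U.toScheme := {}
  haveI : QuasiCompact (U.ι ≫ f) := inferInstance
  obtain ⟨N, hN⟩ := DPush.exists_bound (U.ι ≫ f)
  refine ⟨b + N, ?_⟩
  rw [DerivedCategory.isLE_iff]
  intro m hm
  exact (hN F (DQC.isQCohD_resD U.ι fun i => (hc i).1) b hF m (by omega)).of_iso
    ((DerivedCategory.homologyFunctor S.Modules m).mapIso
      ((DCoh.Rpush f).mapIso e ≪≫ (DPush.compIso U.ι f).app F))

end Groth.Agent.DPush9
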