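import Groth.Agent.Lib.DPush.QCoh
import Groth.Agent.Lib.AcyclicSum8.Main
import Groth.Agent.Lib.KFlat.Brutal
import Groth.Agent.Lib.DQC.Tensor
import Groth.Agent.Lib.RHom.Support
import Groth.Agent.Lib.DerTrunc.Basic

/-! Complexes of acyclic quasi-coherent modules compute `Rf_*`. -/

set_option autoImplicit false
set_option linter.style.haveILetI false
set_option linter.unusedSectionVars false
set_option backward.isDefEq.respectTransparency false
set_option backward.isDefEq.respectTransparency.types false
set_option maxHeartbeats 800000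

universe u

open CategoryTheory CategoryTheory.Limits AlgebraicGeometry Pretriangulated

namespace Groth.Agent.DPush9

attribute [local instance] HasDerivedCategory.standard

/-- A map which is an isomorphism in three consecutive degrees is one on cohomology in the middle. -/
theorem isIso_homologyMap_of_isIso {A : Type*} [Category* A] [Abelian A] {K L : CochainComplex A ℤ} (φ : K ⟶ L)
    (m : ℤ) (h₁ : IsIso (φ.f (m - 1))) (h₂ : IsIso (φ.f m)) (h₃ : IsIso (φ.f (m + 1))) :
    IsIso (HomologicalComplex.homologyMap φ m) := by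
  have : IsIso (((HomologicalComplex.shortComplexFunctor A (ComplexShape.up ℤ) m).map φ)) := by
    haveI : IsIso ((HomologicalComplex.shortComplexFunctor A (ComplexShape.up ℤ) m).map φ).τ₁ := by
      change IsIso (φ.f ((ComplexShape.up ℤ).prev m))
      rw [CochainComplex.prev]
      exact h₁
    haveI : IsIso ((HomologicalComplex.shortComplexFunctor A (ComplexShape.up ℤ) m).map φ).τ₂ := h₂
    haveI : IsIso ((HomologicalComplex.shortComplexFunctor A (ComplexShape.up ℤ) m).map φ).τ₃ := by
      change IsIso (φ.f ((ComplexShape.up ℤ).next m))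
      rw [CochainComplex.next]
      exact h₃
    exact ShortComplex.isIso_of_isIso _
  exact inferInstanceAs (IsIso ((ShortComplex.homologyFunctor A).map
    ((HomologicalComplex.shortComplexFunctor A (ComplexShape.up ℤ) m).map φ)))

variable {X S : Scheme.{u}} (f : X ⟶ S) [DCoh.HasRpush f]

/-- The canonical map `f_* F ⟶ Rf_* F` on complexes. -/
noncomputable abbrev βp :
    (Scheme.Modules.pushforward f).mapHomologicalComplex (ComplexShape.up ℤ) ⋙ DerivedCategory.Q ⟶
      DerivedCategory.Q ⋙ DCoh.Rpush f :=
  AcyclicSum8.β (Scheme.Modules.pushforward f) (DCoh.Rpush f) (DPush.unit f)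

/-- The bound on an affine open, on cohomology of the restriction. -/
theorem exists_bound_res [QuasiCompact f] [QuasiSeparated f] {V : S.Opens} (hV : IsAffineOpen V) :
    ∃ d : ℕ, ∀ (E : DCoh.D X), DCoh.IsQCohD E → ∀ b : ℤ, E.IsLE b → ∀ m : ℤ, b + d ≤ m →
      IsZero ((DerivedCategory.homologyFunctor (V : Scheme.{u}).Modules m).obj
        ((DPerf.resD V.ι).obj ((DCoh.Rpush f).obj E))) := by
  obtain ⟨d, hd⟩ := DPush.exists_bound_affine f hV
  exact ⟨d, fun E hE b hb m hm => (hd E hE b hb m hm).of_iso (DPerf.hdResIso V.ι _ m)⟩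

/-- Acyclic quasi-coherent complexes compute `Rf_*`. -/
theorem isIso_βp [QuasiCompact f] [QuasiSeparated f] (F : CochainComplex X.Modules ℤ)
    (hq : ∀ n, Coh.IsQCoh (F.X n))
    (hac : ∀ n, RFPlus.IsAcyclicObj (Scheme.Modules.pushforward f) (F.X n)) : IsIso ((βp f).app F) := by
  obtain ⟨cs, hR⟩ := DPush.exists_commShift_isTriangulated f
  letI := cs
  haveI := hR
  refine RHom.isIso_of_cover _ fun y => ?_
  suffices hh : ∀ V : S.Opens, IsAffineOpen V → ∀ m : ℤ,
      IsIso ((DerivedCategory.homologyFunctor (V : Scheme.{u}).Modules m).map ((DPerf.resD V.ι).map ((βp f).app F))) by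
    obtain ⟨V, hV, hy, -⟩ := TopologicalSpace.Opens.isBasis_iff_nbhd.1 S.isBasis_affineOpens (U := ⊤) (x := y) trivial
    exact ⟨V, hy, (DerivedCategory.isIso_iff _ _).2 (hh V hV)⟩
  intro V hV m
  obtain ⟨d, hd⟩ := exists_bound_res f hV
  let c : ℤ := m - (d : ℤ) - 2
  let ι := KFlat.brutι F c
  haveI : Mono ι := KFlat.mono_brutι F c
  let C := cokernel ι
  let Sq : ShortComplex (CochainComplex X.Modules ℤ) := ShortComplex.mk ι (cokernel.π ι) (cokernel.condition ι)
  have hS : Sq.ShortExact := ShortComplex.ShortExact.mk' (ShortComplex.exact_cokernel ι) inferInstance inferInstance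
  have hC : ∀ i, Coh.IsQCoh (C.X i) ∧ (c ≤ i → IsZero (C.X i)) := fun i => by
    have h := hS.map_of_exact (HomologicalComplex.eval X.Modules (ComplexShape.up ℤ) i)
    by_cases hi : c ≤ i
    · haveI := KFlat.isIso_brutι_f F hi
      have hz : IsZero (C.X i) := by
        have h0 : (cokernel.π ι).f i = 0 := by
          rw [← cancel_epi (ι.f i), comp_zero, ← HomologicalComplex.comp_f, cokernel.condition,
            HomologicalComplex.zero_f]
        haveI : Epi ((cokernel.π ι).f i) := h.epi_g
        exact (IsZero.iff_id_eq_zero _).2 ((cancel_epi ((cokernel.π ι).f i)).1 (by rw [h0, zero_comp, zero_comp]))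
      exact ⟨DPush.isQCoh_of_isZero hz, fun _ => hz⟩
    · have hz : IsZero ((KFlat.brutGE F c).X i) := KFlat.brutGE_isZero F (by omega)
      haveI : IsIso ((cokernel.π ι).f i) := (h.isIso_g_iff).2 hz
      exact ⟨M1.isQCoh_of_isIso (asIso ((cokernel.π ι).f i)) (hq i), fun h' => absurd h' hi⟩
  have hle : (DCoh.toD X C).IsLE c := by
    haveI : C.IsStrictlyLE c := (CochainComplex.isStrictlyLE_iff C c).2 fun i hi => (hC i).2 hi.le
    infer_instance
  have hCq : DCoh.IsQCohD (DCoh.toD X C) := DQC.isQCohD_toD fun i => (hC i).1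
  -- the derived side
  let Ψ := DCoh.Rpush f ⋙ DPerf.resD V.ι
  let T := DerivedCategory.triangleOfSES hS
  have hT : Ψ.mapTriangle.obj T ∈ distTriang _ :=
    Ψ.map_distinguished T (DerivedCategory.triangleOfSES_distinguished hS)
  haveI h1 : IsIso ((DerivedCategory.homologyFunctor (V : Scheme.{u}).Modules m).map (Ψ.map (DerivedCategory.Q.map ι))) :=
    DerTrunc.isIso_map_mor₁ _ hT m (hd _ hCq c hle (m - 1) (by omega)) (hd _ hCq c hle m (by omega))
  -- the underived side
  haveI h2 : IsIso ((DerivedCategory.homologyFunctor (V : Scheme.{u}).Modules m).map ((DPerf.resD V.ι).map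
      (DerivedCategory.Q.map (((Scheme.Modules.pushforward f).mapHomologicalComplex (ComplexShape.up ℤ)).map ι)))) := by
    refine (NatIso.isIso_map_iff (Functor.isoWhiskerRight (DPerf.resFac V.ι)
      (DerivedCategory.homologyFunctor (V : Scheme.{u}).Modules m) ≪≫ Functor.associator _ _ _ ≪≫
        Functor.isoWhiskerLeft (DPerf.resX V.ι) (DerivedCategory.homologyFunctorFactors _ m)) _).2 ?_
    have hf : ∀ i, c ≤ i → IsIso (((DPerf.resX V.ι).map
        (((Scheme.Modules.pushforward f).mapHomologicalComplex (ComplexShape.up ℤ)).map ι)).f i) := fun i hi => by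
      haveI := KFlat.isIso_brutι_f F hi
      exact inferInstanceAs (IsIso ((Scheme.Modules.restrictFunctor V.ι).map
        ((Scheme.Modules.pushforward f).map (ι.f i))))
    exact isIso_homologyMap_of_isIso _ m (hf _ (by omega)) (hf _ (by omega)) (hf _ (by omega))
  haveI hb : IsIso ((βp f).app (KFlat.brutGE F c)) := by
    haveI : (KFlat.brutGE F c).IsStrictlyGE (c - 1 + 1) := by
      rw [sub_add_cancel]
      infer_instance
    refine AcyclicSum8.isIso_β_of_bounded _ _ _ _ (c - 1) fun i => ?_
    by_cases hi : c ≤ i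
    · intro k hk
      exact (hac i k hk).of_iso (((Scheme.Modules.pushforward f).rightDerived k).mapIso (KFlat.brutIso F hi))
    · haveI : Injective ((KFlat.brutGE F c).X i) := (KFlat.brutGE_isZero F (by omega)).injective
      exact RFPlus.isAcyclicObj_injective _ _
  have hn := congrArg (fun t => (DerivedCategory.homologyFunctor (V : Scheme.{u}).Modules m).map
    ((DPerf.resD V.ι).map t)) ((βp f).naturality ι)
  simp only [Functor.map_comp, Functor.comp_map] at hn
  haveI : IsIso ((DerivedCategory.homologyFunctor (V : Scheme.{u}).Modules m).map ((DPerf.resD V.ι).map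
      (DerivedCategory.Q.map (((Scheme.Modules.pushforward f).mapHomologicalComplex (ComplexShape.up ℤ)).map ι))) ≫
      (DerivedCategory.homologyFunctor (V : Scheme.{u}).Modules m).map ((DPerf.resD V.ι).map ((βp f).app F))) := by
    rw [hn]
    haveI : IsIso ((DerivedCategory.homologyFunctor (V : Scheme.{u}).Modules m).map
        ((DPerf.resD V.ι).map ((DCoh.Rpush f).map (DerivedCategory.Q.map ι)))) := h1
    infer_instance
  exact IsIso.of_isIso_comp_left ((DerivedCategory.homologyFunctor (V : Scheme.{u}).Modules m).map ((DPerf.resD V.ι).map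
    (DerivedCategory.Q.map (((Scheme.Modules.pushforward f).mapHomologicalComplex (ComplexShape.up ℤ)).map ι)))) _

/-- In the form of the prelude's unit. -/
theorem isIso_unit [QuasiCompact f] [QuasiSeparated f] (F : CochainComplex X.Modules ℤ)
    (hq : ∀ n, Coh.IsQCoh (F.X n))
    (hac : ∀ n, RFPlus.IsAcyclicObj (Scheme.Modules.pushforward f) (F.X n)) :
    IsIso ((DPush.unit f).app ((HomotopyCategory.quotient X.Modules (ComplexShape.up ℤ)).obj F)) :=
  (AcyclicSum8.isIso_β_app_iff _ _ _ F).1 (isIso_βp f F hq hac)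

end Groth.Agent.DPush9
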